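/-
Central characters as functions on classes (namespace `Cfsg.Agent.RealBlock`).

Main results: `centralChar_mul` (class multiplication), `isIntegral_centralChar`, `charDegree_dvd_card`,
`charDegree_cast`, `memI_sub_pow` (a value agrees mod M with the value at the p-regular part).
-/
import Cfsg.Agent.EqLemmas
import Cfsg.Agent.Lib.Char.Orth
import Cfsg.Agent.Lib.CharApp.Schur
import Cfsg.Agent.Lib.Blocks.Local

set_option autoImplicit false
set_option linter.unusedSectionVars false

namespace Cfsg.Agent.RealBlock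

open Cfsg Module
open scoped ComplexConjugate

variable {G : Type*} [Group G] [Fintype G]

/-- The conjugacy class of `g` as a finset. -/
noncomputable def classSet (g : G) : Finset G := by
  classical exact Finset.univ.filter fun a => IsConj g a

@[simp] theorem mem_classSet {g a : G} : a ∈ classSet g ↔ IsConj g a := by
  classical simp [classSet]

theorem classSet_eq_of_isConj {g h : G} (e : IsConj g h) : classSet g = classSet h := by
  ext a; rw [mem_classSet, mem_classSet]; exact ⟨fun ha => e.symm.trans ha, fun ha => e.trans ha⟩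

theorem card_classSet_mul (g : G) :
    (classSet g).card * Nat.card (Subgroup.centralizer ({g} : Set G)) = Nat.card G := by
  rw [← Char.card_conjugates_mul_card_centralizer g, ← Nat.card_eq_finsetCard]
  congr 1
  exact Nat.card_congr (Equiv.subtypeEquivRight fun a => mem_classSet)

theorem index_centralizer (g : G) :
    (Subgroup.centralizer ({g} : Set G)).index = (classSet g).card := by
  refine Nat.eq_of_mul_eq_mul_right (m := Nat.card (Subgroup.centralizer ({g} : Set G))) Nat.card_pos ?_
  rw [card_classSet_mul, Subgroup.index_mul_card]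

theorem index_centralizer_eq_of_isConj {g h : G} (e : IsConj g h) :
    (Subgroup.centralizer ({g} : Set G)).index = (Subgroup.centralizer ({h} : Set G)).index := by
  rw [index_centralizer, index_centralizer, classSet_eq_of_isConj e]

theorem index_centralizer_inv (g : G) :
    (Subgroup.centralizer ({g⁻¹} : Set G)).index = (Subgroup.centralizer ({g} : Set G)).index := by
  congr 1
  ext a
  simp only [Subgroup.mem_centralizer_singleton_iff]
  exact ⟨fun h => (Commute.inv_right_iff (a := a) (b := g)).mp h,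
    fun h => (Commute.inv_right_iff (a := a) (b := g)).mpr h⟩

theorem centralChar_eq (χ : G → ℂ) (g : G) :
    centralChar χ g = ((classSet g).card : ℂ) * χ g / χ 1 := by
  rw [centralChar, index_centralizer]

theorem centralChar_eq_of_isConj {χ : G → ℂ} (hχ : IsClassFunction G χ) {g h : G} (e : IsConj g h) :
    centralChar χ g = centralChar χ h := by
  obtain ⟨c, rfl⟩ := isConj_iff.mp e
  rw [centralChar, centralChar, index_centralizer_eq_of_isConj e, hχ g c]

/-- Number of ways of writing `z` as a product from the classes of `g` and `h`. -/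
noncomputable def mulCount (g h z : G) : ℕ := by
  classical exact ((classSet g ×ˢ classSet h).filter fun q => q.1 * q.2 = z).card

theorem mulCount_conj (g h z c : G) : mulCount g h (c * z * c⁻¹) = mulCount g h z := by
  classical
  unfold mulCount
  refine Finset.card_bij' (fun q _ => (c⁻¹ * q.1 * c, c⁻¹ * q.2 * c))
    (fun q _ => (c * q.1 * c⁻¹, c * q.2 * c⁻¹)) ?_ ?_ ?_ ?_
  · rintro ⟨a, b⟩ hq
    simp only [Finset.mem_filter, Finset.mem_product, mem_classSet] at hq ⊢
    refine ⟨⟨hq.1.1.trans (isConj_iff.mpr ⟨c⁻¹, by group⟩),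
      hq.1.2.trans (isConj_iff.mpr ⟨c⁻¹, by group⟩)⟩, ?_⟩
    calc c⁻¹ * a * c * (c⁻¹ * b * c) = c⁻¹ * (a * b) * c := by group
      _ = z := by rw [hq.2]; group
  · rintro ⟨a, b⟩ hq
    simp only [Finset.mem_filter, Finset.mem_product, mem_classSet] at hq ⊢
    refine ⟨⟨hq.1.1.trans (isConj_iff.mpr ⟨c, rfl⟩), hq.1.2.trans (isConj_iff.mpr ⟨c, rfl⟩)⟩, ?_⟩
    calc c * a * c⁻¹ * (c * b * c⁻¹) = c * (a * b) * c⁻¹ := by group
      _ = _ := by rw [hq.2]
  · intro q _; ext <;> group
  · intro q _; ext <;> group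

theorem mulCount_eq_of_isConj {g h z w : G} (e : IsConj z w) : mulCount g h z = mulCount g h w := by
  obtain ⟨c, rfl⟩ := isConj_iff.mp e
  rw [mulCount_conj]

theorem isConj_inv {a b : G} (e : IsConj a b) : IsConj a⁻¹ b⁻¹ := by
  obtain ⟨c, rfl⟩ := isConj_iff.mp e
  exact isConj_iff.mpr ⟨c, by group⟩

theorem mulCount_inv (g z : G) : mulCount g g⁻¹ z⁻¹ = mulCount g g⁻¹ z := by
  classical
  unfold mulCount
  refine Finset.card_bij' (fun q _ => (q.2⁻¹, q.1⁻¹)) (fun q _ => (q.2⁻¹, q.1⁻¹)) ?_ ?_ ?_ ?_
  · rintro ⟨a, b⟩ hq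
    simp only [Finset.mem_filter, Finset.mem_product, mem_classSet] at hq ⊢
    exact ⟨⟨by simpa using isConj_inv hq.1.2, isConj_inv hq.1.1⟩, by rw [← mul_inv_rev, hq.2, inv_inv]⟩
  · rintro ⟨a, b⟩ hq
    simp only [Finset.mem_filter, Finset.mem_product, mem_classSet] at hq ⊢
    exact ⟨⟨by simpa using isConj_inv hq.1.2, isConj_inv hq.1.1⟩, by rw [← mul_inv_rev, hq.2]⟩
  · intro q _; simp
  · intro q _; simp

theorem sum_classSet_mul {χ : G → ℂ} (hχ : IsIrrCharacter G χ) (g y : G) :
    ∑ a ∈ classSet g, χ (a * y) = ((classSet g).card : ℂ) * χ g * χ y / χ 1 := by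
  classical
  obtain ⟨n, ρ, hρ, rfl⟩ := hχ
  have h := CharApp.sum_char_conj_mul ρ g y
  have hfib : ∀ a ∈ classSet g,
      (Finset.univ.filter fun b : G => b * g * b⁻¹ = a).card =
        Nat.card (Subgroup.centralizer ({g} : Set G)) := by
    intro a ha
    obtain ⟨c, rfl⟩ := isConj_iff.mp (mem_classSet.mp ha)
    rw [← Nat.card_eq_finsetCard]
    refine Nat.card_congr ⟨fun b => ⟨c⁻¹ * b.1, ?_⟩, fun d => ⟨c * d.1, ?_⟩, ?_, ?_⟩
    · rw [Subgroup.mem_centralizer_singleton_iff]
      have hb := (Finset.mem_filter.mp b.2).2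
      calc c⁻¹ * b.1 * g = c⁻¹ * (b.1 * g * b.1⁻¹) * b.1 := by group
        _ = _ := by rw [hb]; group
    · have hd := Subgroup.mem_centralizer_singleton_iff.mp d.2
      rw [Finset.mem_filter]
      refine ⟨Finset.mem_univ _, ?_⟩
      calc c * d.1 * g * (c * d.1)⁻¹ = c * (d.1 * g) * d.1⁻¹ * c⁻¹ := by group
        _ = c * g * c⁻¹ := by rw [hd]; group
    · intro b; ext; simp
    · intro b; ext; simp
  have h1 : ∑ b : G, ρ.character (b * g * b⁻¹ * y) =
      (Nat.card (Subgroup.centralizer ({g} : Set G)) : ℂ) * ∑ a ∈ classSet g, ρ.character (a * y) := by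
    rw [← Finset.sum_fiberwise_of_maps_to (s := Finset.univ) (t := classSet g)
      (g := fun b : G => b * g * b⁻¹) (fun b _ => mem_classSet.mpr (isConj_iff.mpr ⟨b, rfl⟩)),
      Finset.mul_sum]
    refine Finset.sum_congr rfl fun a ha => ?_
    rw [Finset.sum_congr rfl fun b hb => by rw [(Finset.mem_filter.mp hb).2], Finset.sum_const,
      hfib a ha, nsmul_eq_mul]
  rw [h1, ← card_classSet_mul g, Nat.cast_mul] at h
  have hC : (Nat.card (Subgroup.centralizer ({g} : Set G)) : ℂ) ≠ 0 :=
    Nat.cast_ne_zero.mpr Nat.card_pos.ne'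
  refine mul_left_cancel₀ hC (h.trans ?_)
  rw [Representation.char_one]
  ring

/-- Class multiplication: `ω(g) ω(h)` is an integral combination of the `ω`. -/
theorem centralChar_mul [Fintype (ConjClasses G)] {χ : G → ℂ} (hχ : IsIrrCharacter G χ) (g h : G) :
    centralChar χ g * centralChar χ h =
      ∑ L : ConjClasses G, (mulCount g h L.out : ℂ) * centralChar χ L.out := by
  classical
  have hcl := Char.IsIrrCharacter.isClassFunction hχ
  have key : ∀ a' ∈ classSet h, ∑ a ∈ classSet g, χ (a * a') = centralChar χ g * χ h := by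
    intro a' ha'
    obtain ⟨c, rfl⟩ := isConj_iff.mp (mem_classSet.mp ha')
    rw [sum_classSet_mul hχ, hcl h c, centralChar_eq]
    ring
  have h1 : centralChar χ g * centralChar χ h =
      (∑ q ∈ classSet g ×ˢ classSet h, χ (q.1 * q.2)) / χ 1 := by
    rw [Finset.sum_product_right, Finset.sum_congr rfl key, Finset.sum_const, nsmul_eq_mul,
      centralChar_eq χ h]
    ring
  have h2 : ∑ q ∈ classSet g ×ˢ classSet h, χ (q.1 * q.2) = ∑ z, (mulCount g h z : ℂ) * χ z := by
    rw [← Finset.sum_fiberwise (classSet g ×ˢ classSet h) (fun q => q.1 * q.2)]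
    refine Finset.sum_congr rfl fun z _ => ?_
    rw [Finset.sum_congr rfl fun q hq => by rw [(Finset.mem_filter.mp hq).2], Finset.sum_const,
      nsmul_eq_mul, mulCount]
  have h3 : ∑ z, (mulCount g h z : ℂ) * χ z =
      ∑ L : ConjClasses G, ((classSet L.out).card : ℂ) * ((mulCount g h L.out : ℂ) * χ L.out) := by
    rw [← Finset.sum_fiberwise Finset.univ (ConjClasses.mk : G → ConjClasses G)]
    refine Finset.sum_congr rfl fun L _ => ?_
    have hfilter : (Finset.univ.filter fun z : G => ConjClasses.mk z = L) = classSet L.out := by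
      ext z
      rw [Finset.mem_filter, mem_classSet]
      simp only [Finset.mem_univ, true_and]
      conv_lhs => rw [← Quotient.out_eq L]
      exact ConjClasses.mk_eq_mk_iff_isConj.trans isConj_comm
    rw [hfilter, Finset.sum_congr rfl fun z hz => ?_, Finset.sum_const, nsmul_eq_mul]
    obtain ⟨c, rfl⟩ := isConj_iff.mp (mem_classSet.mp hz)
    rw [mulCount_conj, hcl L.out c]
  rw [h1, h2, h3, Finset.sum_div]
  refine Finset.sum_congr rfl fun L _ => ?_
  rw [centralChar_eq]
  ring

theorem centralChar_one_eq {χ : G → ℂ} (hχ : IsIrrCharacter G χ) : centralChar χ 1 = 1 := by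
  have : (Subgroup.centralizer ({(1 : G)} : Set G)).index = 1 := by
    rw [Subgroup.index_eq_one, eq_top_iff]
    intro a _
    simp [Subgroup.mem_centralizer_singleton_iff]
  rw [centralChar, this, Nat.cast_one, one_mul, div_self (Char.IsIrrCharacter.apply_one_ne_zero hχ)]

/-- Values of central characters are algebraic integers. -/
theorem isIntegral_centralChar {χ : G → ℂ} (hχ : IsIrrCharacter G χ) (g : G) :
    IsIntegral ℤ (centralChar χ g) := by
  classical
  have := Fintype.ofFinite (ConjClasses G)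
  have hcl := Char.IsIrrCharacter.isClassFunction hχ
  let S : Submodule ℤ ℂ := Submodule.span ℤ (Set.range (centralChar χ))
  have hgen : ∀ a b : G, centralChar χ a * centralChar χ b ∈ S := fun a b => by
    rw [centralChar_mul hχ]
    refine Submodule.sum_mem _ fun L _ => ?_
    rw [← nsmul_eq_mul]
    exact Submodule.smul_of_tower_mem _ _ (Submodule.subset_span ⟨_, rfl⟩)
  have hmul : ∀ x y, x ∈ S → y ∈ S → x * y ∈ S := by
    intro x y hx hy
    induction hx using Submodule.span_induction with
    | mem a ha =>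
      induction hy using Submodule.span_induction with
      | mem b hb => obtain ⟨a', rfl⟩ := ha; obtain ⟨b', rfl⟩ := hb; exact hgen a' b'
      | zero => simp
      | add u v _ _ hu hv => rw [mul_add]; exact S.add_mem hu hv
      | smul c u _ hu => rw [mul_smul_comm]; exact S.smul_mem c hu
    | zero => simp
    | add u v _ _ hu hv => rw [add_mul]; exact S.add_mem hu hv
    | smul c u _ hu => rw [smul_mul_assoc]; exact S.smul_mem c hu
  let A : Subalgebra ℤ ℂ := S.toSubalgebra (Submodule.subset_span ⟨1, centralChar_one_eq hχ⟩) hmul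
  refine IsIntegral.of_mem_of_fg A ?_ _ (Submodule.subset_span ⟨g, rfl⟩)
  exact Submodule.fg_span (Set.finite_range _)

theorem charDegree_cast {χ : G → ℂ} (hχ : IsCharacter G χ) : (charDegree χ : ℂ) = χ 1 := by
  obtain ⟨n, hn⟩ := Char.IsCharacter.exists_degree hχ
  rw [charDegree, hn, Complex.natCast_re, Nat.floor_natCast]

theorem charDegree_pos {χ : G → ℂ} (hχ : IsIrrCharacter G χ) : 0 < charDegree χ :=
  Nat.pos_of_ne_zero fun h => Char.IsIrrCharacter.apply_one_ne_zero hχ
    (by rw [← charDegree_cast (Char.IsIrrCharacter.isCharacter hχ), h, Nat.cast_zero])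

/-- The degree of an irreducible character divides the group order. -/
theorem charDegree_dvd_card {χ : G → ℂ} (hχ : IsIrrCharacter G χ) :
    charDegree χ ∣ Nat.card G := by
  classical
  have := Fintype.ofFinite (ConjClasses G)
  have hcl := Char.IsIrrCharacter.isClassFunction hχ
  have hchar := Char.IsIrrCharacter.isCharacter hχ
  have hd : (charDegree χ : ℂ) ≠ 0 := Nat.cast_ne_zero.mpr (charDegree_pos hχ).ne'
  have h := Char.classInner_irr_self hχ
  rw [classInner, inv_mul_eq_one₀ (Nat.cast_ne_zero.mpr Nat.card_pos.ne')] at h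
  have hsum : (Nat.card G : ℂ) / (charDegree χ : ℂ) =
      ∑ L : ConjClasses G, centralChar χ L.out * χ L.out⁻¹ := by
    rw [h, ← Finset.sum_fiberwise Finset.univ (ConjClasses.mk : G → ConjClasses G), Finset.sum_div]
    refine Finset.sum_congr rfl fun L _ => ?_
    have hfilter : (Finset.univ.filter fun z : G => ConjClasses.mk z = L) = classSet L.out := by
      ext z
      rw [Finset.mem_filter, mem_classSet]
      simp only [Finset.mem_univ, true_and]
      conv_lhs => rw [← Quotient.out_eq L]
      exact ConjClasses.mk_eq_mk_iff_isConj.trans isConj_comm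
    rw [hfilter, Finset.sum_congr rfl (g := fun _ => χ L.out * conj (χ L.out)) fun z hz => ?_,
      Finset.sum_const, nsmul_eq_mul, centralChar_eq, charDegree_cast hchar,
      Char.IsCharacter.apply_inv hchar]
    · ring
    · obtain ⟨c, rfl⟩ := isConj_iff.mp (mem_classSet.mp hz)
      rw [hcl L.out c]
  have hint : IsIntegral ℤ ((Nat.card G : ℂ) / (charDegree χ : ℂ)) := by
    rw [hsum]
    exact IsIntegral.sum _ fun L _ =>
      (isIntegral_centralChar hχ _).mul (Char.IsCharacter.isIntegral hchar _)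
  have hq : IsIntegral ℤ ((Nat.card G : ℚ) / (charDegree χ : ℚ)) := by
    refine (isIntegral_algebraMap_iff (FaithfulSMul.algebraMap_injective ℚ ℂ)).mp ?_
    simpa using hint
  obtain ⟨m, hm⟩ := IsIntegrallyClosed.isIntegral_iff.mp hq
  have hdq : (charDegree χ : ℚ) ≠ 0 := Nat.cast_ne_zero.mpr (charDegree_pos hχ).ne'
  have : (m : ℚ) * charDegree χ = Nat.card G := by
    rw [show (m : ℚ) = algebraMap ℤ ℚ m from rfl, hm, div_mul_cancel₀ _ hdq]
  have hm' : (Nat.card G : ℤ) = (charDegree χ : ℤ) * m := by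
    rw [mul_comm]; exact_mod_cast this.symm
  exact Int.natCast_dvd_natCast.mp ⟨m, hm'⟩

omit [Fintype G] in
/-- Roots of unity: `μ ^ c ≡ μ` mod M when `c * p ^ k ≡ p ^ k` modulo the order of `μ`. -/
theorem sub_pow_mem {p : ℕ} {M : Ideal AlgInt} (hM : IsPModular p M) (x y : AlgInt) (k : ℕ)
    (h : x ^ p ^ k = y ^ p ^ k) : x - y ∈ M := by
  have := hM.2.1
  have := Fact.mk hM.1
  let : Field (AlgInt ⧸ M) := Ideal.Quotient.field M
  have : CharP (AlgInt ⧸ M) p := by
    refine (CharP.charP_iff_prime_eq_zero hM.1).mpr ?_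
    rw [← map_natCast (Ideal.Quotient.mk M)]
    exact Ideal.Quotient.eq_zero_iff_mem.mpr hM.2.2
  rw [← Ideal.Quotient.eq_zero_iff_mem]
  refine eq_zero_of_pow_eq_zero (n := p ^ k) ?_
  rw [map_sub, sub_pow_char_pow, ← map_pow, ← map_pow, h, sub_self]

/-- A character value agrees mod M with the value at the `p`-regular part. -/
theorem memI_sub_pow {p : ℕ} {M : Ideal AlgInt} (hM : IsPModular p M) {χ : G → ℂ}
    (hχ : IsCharacter G χ) (g : G) {c k : ℕ} (hc : c * p ^ k ≡ p ^ k [MOD orderOf g]) :
    MemLocalIdeal M (χ (g ^ c) - χ g) := by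
  obtain ⟨n, ρ, rfl⟩ := hχ
  obtain ⟨b, μ, hμ, hroot⟩ := Char.exists_eigenbasis ρ g
  rw [Char.character_pow ρ g b μ hμ, Char.character_eq_sum_eigenvalues ρ g b μ hμ,
    ← Finset.sum_sub_distrib]
  refine Blocks.memI_sum hM _ fun i _ => ?_
  have hint : IsIntegral ℤ (μ i) :=
    IsIntegral.of_pow (orderOf_pos g) (by rw [hroot i]; exact isIntegral_one)
  let a : AlgInt := ⟨μ i, hint⟩
  have hpow : (a ^ c) ^ p ^ k = a ^ p ^ k := by
    apply Subtype.ext
    show ((a ^ c) ^ p ^ k : AlgInt).1 = _
    push_cast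
    rw [← pow_mul, pow_eq_pow_mod _ (hroot i), hc, ← pow_eq_pow_mod _ (hroot i)]
  have := (Blocks.memI_coe hM).mpr (sub_pow_mem hM _ _ k hpow)
  simpa [a] using this

end Cfsg.Agent.RealBlock
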