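/-
Elementary facts about blocks as sets of characters (namespace `Cfsg.Agent.RealBlock`):
`sameBlock_refl/symm/trans`, `eq_principalBlock_of_mem`, `exists_factorization_zero`.
-/
import Cfsg.Agent.Lib.RealBlock.Central

set_option autoImplicit false
set_option linter.unusedSectionVars false

namespace Cfsg.Agent.RealBlock

open Cfsg Blocks

variable {G : Type*} [Group G] {p : ℕ} {M : Ideal AlgInt}

theorem sameBlock_refl (hM : IsPModular p M) (χ : G → ℂ) : SameBlock M χ χ := fun g => by
  rw [sub_self]; exact memI_zero hM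

theorem sameBlock_symm {χ ψ : G → ℂ} (h : SameBlock M χ ψ) : SameBlock M ψ χ :=
  fun g => memI_sub_comm (h g)

theorem sameBlock_trans (hM : IsPModular p M) {χ ψ ξ : G → ℂ} (h : SameBlock M χ ψ)
    (h' : SameBlock M ψ ξ) : SameBlock M χ ξ := fun g => memI_sub_trans hM (h g) (h' g)

theorem sameBlock_of_mem (hM : IsPModular p M) {B : Set (IrrCharacter G)} (hB : IsPBlock M B)
    {χ ψ : IrrCharacter G} (hχ : χ ∈ B) (hψ : ψ ∈ B) : SameBlock M (χ : G → ℂ) (ψ : G → ℂ) := by
  obtain ⟨χ₀, rfl⟩ := hB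
  exact sameBlock_trans hM (sameBlock_symm hχ) hψ

theorem eq_blockOf_of_mem (hM : IsPModular p M) {B : Set (IrrCharacter G)} (hB : IsPBlock M B)
    {χ : IrrCharacter G} (hχ : χ ∈ B) : B = blockOf M (χ : G → ℂ) := by
  obtain ⟨χ₀, rfl⟩ := hB
  exact Set.ext fun ψ => ⟨fun h => sameBlock_trans hM (sameBlock_symm hχ) h,
    fun h => sameBlock_trans hM hχ h⟩

theorem eq_principalBlock_of_mem (hM : IsPModular p M) {B : Set (IrrCharacter G)} (hB : IsPBlock M B)
    {χ : IrrCharacter G} (hχ : χ ∈ B) (h1 : SameBlock M (fun _ : G => (1 : ℂ)) (χ : G → ℂ)) :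
    B = principalBlock M G := by
  rw [eq_blockOf_of_mem hM hB hχ]
  exact Set.ext fun ψ => ⟨fun h => sameBlock_trans hM h1 h,
    fun h => sameBlock_trans hM (sameBlock_symm h1) h⟩

theorem blockNonempty (hM : IsPModular p M) {B : Set (IrrCharacter G)} (hB : IsPBlock M B) :
    B.Nonempty := by
  obtain ⟨χ₀, rfl⟩ := hB
  exact ⟨χ₀, sameBlock_refl hM _⟩

/-- A block whose defect is maximal has a member of degree prime to `p`. -/
theorem exists_factorization_zero [Fintype G] (hM : IsPModular p M) {B : Set (IrrCharacter G)}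
    (hB : IsPBlock M B) (hdef : blockDefect p B = (Nat.card G).factorization p) :
    ∃ χ ∈ B, ¬ p ∣ charDegree (χ : G → ℂ) := by
  obtain ⟨χ, hχ, hmin⟩ := Nat.sInf_mem ((blockNonempty hM hB).image
    fun χ : IrrCharacter G => (charDegree (χ : G → ℂ)).factorization p)
  refine ⟨χ, hχ, fun hdvd => ?_⟩
  have hpos := charDegree_pos χ.2
  have h1 : 0 < (charDegree (χ : G → ℂ)).factorization p :=
    hM.1.factorization_pos_of_dvd hpos.ne' hdvd
  have h2 : (charDegree (χ : G → ℂ)).factorization p ≤ (Nat.card G).factorization p :=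
    (Nat.factorization_le_iff_dvd hpos.ne' Nat.card_pos.ne').mpr (charDegree_dvd_card χ.2) p
  rw [blockDefect, ← hmin] at hdef
  simp only at hdef
  omega

end Cfsg.Agent.RealBlock
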