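/-
Central characters and normal subgroups (namespace `Cfsg.Agent.RealBlock`).

Main results: `extN` (extension by zero), `omega_extN` (a `G`-invariant class function on `N` has the same
central character at `χ` and at a constituent of `χ|N`), `mem_principal_constituent` (constituents of a
principal character are principal), `centralChar_congr_index_of_constituent`.
-/
import Cfsg.Agent.Lib.RealBlock.BlockSet
import Cfsg.Agent.Lib.Blocks.Osima
import Cfsg.Agent.Lib.BrauerPairs.Basic
import Cfsg.Agent.Lib.CliffordChar.Basic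

set_option autoImplicit false
set_option linter.unusedSectionVars false

namespace Cfsg.Agent.RealBlock

open Cfsg
open scoped ComplexConjugate

variable {G : Type*} [Group G] [Fintype G] (N : Subgroup G) [hN : N.Normal] [Fintype N]
variable {p : ℕ} {M : Ideal AlgInt}

/-- A `G`-invariant function on a normal subgroup, extended by zero, is a class function. -/
theorem isClassFunction_extendByZero (z : N → ℂ) (hz : ∀ x : G, CliffordChar.conjFun N x z = z) :
    IsClassFunction G (extendByZero N z) := by
  intro g h
  by_cases hg : g ∈ N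
  · rw [Char.extendByZero_mem _ _ hg, Char.extendByZero_mem _ _ (hN.conj_mem g hg h)]
    conv_lhs => rw [← hz h]
    rw [CliffordChar.conjFun_apply]
    congr 1
    apply Subtype.ext
    show h⁻¹ * (h * g * h⁻¹) * h = g
    group
  · rw [Char.extendByZero_not_mem _ _ hg, Char.extendByZero_not_mem _ _ fun hh =>
      hg (by simpa [mul_assoc] using hN.conj_mem _ hh h⁻¹)]

theorem sum_extendByZero (z : N → ℂ) (f : G → ℂ) :
    ∑ x : G, extendByZero N z x * f x = ∑ n : N, z n * f n :=
  Char.sum_extendByZero_mul N z f

/-- The central character at `χ` of an invariant function on `N` is the one at a constituent. -/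
theorem omega_extendByZero (z : N → ℂ) (hz : ∀ x : G, CliffordChar.conjFun N x z = z)
    (χ : IrrCharacter G) (θ : IrrCharacter N)
    (hθ : classInner (fun n : N => (χ : G → ℂ) n) (θ : N → ℂ) ≠ 0) :
    Blocks.omega (χ : G → ℂ) (extendByZero N z) = Blocks.omega (θ : N → ℂ) z := by
  classical
  have h := CliffordChar.restrict_eq N χ.2 θ.2 hθ
  set c := classInner (fun n : N => (χ : G → ℂ) n) (θ : N → ℂ) /
    classInner (CliffordChar.orbitSum N (θ : N → ℂ)) (θ : N → ℂ) with hc
  have hn : ∀ n : N, (χ : G → ℂ) n = c * ∑ x : G, CliffordChar.conjFun N x (θ : N → ℂ) n := fun n => by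
    rw [congrFun h n, Pi.smul_apply, smul_eq_mul, CliffordChar.orbitSum, Finset.sum_apply]
  have hconj : ∀ x : G, ∑ n : N, z n * CliffordChar.conjFun N x (θ : N → ℂ) n =
      ∑ n : N, z n * (θ : N → ℂ) n := fun x => by
    refine Fintype.sum_equiv (MulAut.conjNormal x⁻¹ : MulAut N).toEquiv _ _ fun n => ?_
    show z n * (θ : N → ℂ) (MulAut.conjNormal x⁻¹ n) =
      z (MulAut.conjNormal x⁻¹ n) * (θ : N → ℂ) (MulAut.conjNormal x⁻¹ n)
    rw [show z (MulAut.conjNormal x⁻¹ n) = CliffordChar.conjFun N x z n from rfl, hz]
  have h1 : (χ : G → ℂ) 1 = c * ((Nat.card G : ℂ) * (θ : N → ℂ) 1) := by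
    have := hn 1
    rw [OneMemClass.coe_one] at this
    rw [this, Finset.sum_congr rfl (g := fun _ : G => (θ : N → ℂ) 1)
      (fun x _ => by simp [CliffordChar.conjFun]), Finset.sum_const, Finset.card_univ, nsmul_eq_mul,
      Nat.card_eq_fintype_card]
  have h2 : ∑ n : N, z n * (χ : G → ℂ) n = c * ((Nat.card G : ℂ) * ∑ n : N, z n * (θ : N → ℂ) n) := by
    simp only [hn, Finset.mul_sum]
    rw [Finset.sum_comm, Finset.sum_congr rfl (g := fun _ : G => c * ∑ n : N, z n * (θ : N → ℂ) n)
      (fun x _ => by rw [← hconj x, Finset.mul_sum]; exact Finset.sum_congr rfl fun n _ => by ring),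
      Finset.sum_const, Finset.card_univ, nsmul_eq_mul, Nat.card_eq_fintype_card]
    simp only [Finset.mul_sum]
    exact Finset.sum_congr rfl fun n _ => by ring
  have hc0 : c ≠ 0 := fun h0 => Char.IsIrrCharacter.apply_one_ne_zero χ.2 (by rw [h1, h0, zero_mul])
  rw [Blocks.omega_eq_sum, Blocks.omega_eq_sum, sum_extendByZero, h1, h2, mul_div_mul_left _ _ hc0,
    mul_div_mul_left _ _ (Nat.cast_ne_zero.mpr Nat.card_pos.ne')]

/-- On invariant local integral functions a constituent of a principal character is principal-like. -/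
theorem memI_omega_constituent (hM : IsPModular p M) {χ : IrrCharacter G} (hχ : χ ∈ principalBlock M G)
    {θ : IrrCharacter N} (hθ : classInner (fun n : N => (χ : G → ℂ) n) (θ : N → ℂ) ≠ 0)
    (z : N → ℂ) (hz : ∀ x : G, CliffordChar.conjFun N x z = z) (hR : ∀ n, MemLocalRing M (z n)) :
    MemLocalIdeal M (Blocks.omega (θ : N → ℂ) z - ∑ n, z n) := by
  classical
  have := Fintype.ofFinite (ConjClasses G)
  have hcl := isClassFunction_extendByZero N z hz
  have hRe : ∀ g, MemLocalRing M (extendByZero N z g) := fun g => by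
    by_cases hg : g ∈ N
    · rw [Char.extendByZero_mem _ _ hg]; exact hR _
    · rw [Char.extendByZero_not_mem _ _ hg]; exact Blocks.memR_zero hM
  have h1 : ∑ n, z n = Blocks.omega ((BrauerPairs.oneIrr G : IrrCharacter G) : G → ℂ) (extendByZero N z) := by
    rw [Blocks.omega_eq_sum, sum_extendByZero]
    simp [BrauerPairs.oneIrr]
  rw [← omega_extendByZero N z hz χ θ hθ, h1, Blocks.omega_eq_sum_classes hcl,
    Blocks.omega_eq_sum_classes hcl, ← Finset.sum_sub_distrib]
  refine Blocks.memI_sum hM _ fun q _ => ?_
  rw [← mul_sub]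
  exact Blocks.memI_mul_left hM (hRe _) (Blocks.memI_sub_comm (hχ _))

theorem blockCoeff_principal_conj (x : G) :
    CliffordChar.conjFun N x (blockCoeff (principalBlock M N)) = blockCoeff (principalBlock M N) :=
  funext fun n => (BrauerPairs.blockCoeff_principalBlock_equiv (MulAut.conjNormal x⁻¹ : MulAut N) n).symm

/-- Constituents of principal characters are principal. -/
theorem mem_principal_constituent (hM : IsPModular p M) {χ : IrrCharacter G} (hχ : χ ∈ principalBlock M G)
    {θ : IrrCharacter N} (hθ : classInner (fun n : N => (χ : G → ℂ) n) (θ : N → ℂ) ≠ 0) :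
    θ ∈ principalBlock M N := by
  classical
  have hB : IsPBlock M (principalBlock M N) := BrauerPairs.isPBlock_principal
  have h := memI_omega_constituent N hM hχ hθ (blockCoeff (principalBlock M N))
    (blockCoeff_principal_conj N) (fun n => Blocks.memR_blockCoeff hM hB n)
  rw [Blocks.blockCoeff_eq_ofOmega, Blocks.omega_ofOmega, ← Blocks.blockCoeff_eq_ofOmega,
    BrauerPairs.sum_blockCoeff (BrauerPairs.oneIrr_mem_principal hM)] at h
  by_contra hne
  rw [Blocks.blockInd_of_notMem hne, zero_sub] at h
  exact Blocks.not_memI_one hM (by simpa using Blocks.memI_neg h)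

/-- Over a principal constituent the classes inside `N` look principal. -/
theorem centralChar_congr_index_of_constituent (hM : IsPModular p M) (χ : IrrCharacter G)
    {θ : IrrCharacter N} (hθp : θ ∈ principalBlock M N)
    (hθ : classInner (fun n : N => (χ : G → ℂ) n) (θ : N → ℂ) ≠ 0) {g : G} (hg : g ∈ N) :
    MemLocalIdeal M (centralChar (χ : G → ℂ) g - ((Subgroup.centralizer ({g} : Set G)).index : ℂ)) := by
  classical
  have := Fintype.ofFinite (ConjClasses N)
  let z : N → ℂ := fun n => Blocks.classInd g (n : G)
  have hzN : extendByZero N z = Blocks.classInd g := by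
    funext x
    by_cases hx : x ∈ N
    · rw [Char.extendByZero_mem _ _ hx]
    · rw [Char.extendByZero_not_mem _ _ hx, Blocks.classInd, if_neg]
      intro hc
      obtain ⟨c, rfl⟩ := isConj_iff.mp hc
      exact hx (hN.conj_mem g hg c)
  have hz : ∀ x : G, CliffordChar.conjFun N x z = z := fun x => funext fun n => by
    rw [CliffordChar.conjFun_apply]
    simp only [z]
    rw [← Blocks.classFunction_eq_of_isConj (Blocks.isClassFunction_classInd g) (x := (n : G))
      (y := x⁻¹ * n * x) (isConj_iff.mpr ⟨x⁻¹, by group⟩)]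
  have hzcl : IsClassFunction N z := fun a b => by
    simpa [z] using Blocks.isClassFunction_classInd g (a : G) (b : G)
  have hzR : ∀ n, MemLocalRing M (z n) := fun n => by
    simp only [z, Blocks.classInd]
    split_ifs
    · exact Blocks.memR_one hM
    · exact Blocks.memR_zero hM
  have h1 : ((Subgroup.centralizer ({g} : Set G)).index : ℂ) =
      Blocks.omega ((BrauerPairs.oneIrr N : IrrCharacter N) : N → ℂ) z := by
    have e : centralChar ((BrauerPairs.oneIrr G : IrrCharacter G) : G → ℂ) g =
        ((Subgroup.centralizer ({g} : Set G)).index : ℂ) := by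
      simp [centralChar, BrauerPairs.oneIrr]
    rw [← e, ← Blocks.omega_classInd, ← hzN, Blocks.omega_eq_sum, Blocks.omega_eq_sum, sum_extendByZero]
    simp [BrauerPairs.oneIrr]
  rw [← Blocks.omega_classInd, ← hzN, omega_extendByZero N z hz χ θ hθ, h1,
    Blocks.omega_eq_sum_classes hzcl, Blocks.omega_eq_sum_classes hzcl, ← Finset.sum_sub_distrib]
  refine Blocks.memI_sum hM _ fun q _ => ?_
  rw [← mul_sub]
  exact Blocks.memI_mul_left hM (hzR _) (Blocks.memI_sub_comm (hθp _))

end Cfsg.Agent.RealBlock
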