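/-
A criterion for lying in the principal 2-block (namespace `Cfsg.Agent.RealBlock`).

`sameBlock_one`: an irreducible character of odd degree whose central character takes congruent values
at `s` and `s⁻¹` for every element `s` of odd order lies in the principal 2-block.
-/
import Cfsg.Agent.Lib.RealBlock.Central

set_option autoImplicit false
set_option linter.unusedSectionVars false

namespace Cfsg.Agent.RealBlock

open Cfsg Blocks

variable {G : Type*} [Group G] [Fintype G]

/-- A class with odd size that contains the inverses of its elements consists of involutions or `1`. -/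
theorem mul_self_eq_one_of_real {g : G} (hr : IsConj g g⁻¹)
    (hodd : ¬ 2 ∣ (Subgroup.centralizer ({g} : Set G)).index) : g * g = 1 := by
  obtain ⟨t, ht⟩ := isConj_iff.mp hr
  set C := Subgroup.centralizer ({g} : Set G) with hC
  obtain ⟨a, m, hm, hn⟩ := Nat.exists_eq_pow_mul_and_not_dvd (orderOf_pos t).ne' 2 (by norm_num)
  -- an odd power of `t` still inverts `g`
  have hconj : ∀ i : ℕ, t ^ (2 * i + 1) * g * (t ^ (2 * i + 1))⁻¹ = g⁻¹ := by
    intro i
    induction i with
    | zero => simpa using ht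
    | succ i ih =>
      have e : 2 * (i + 1) + 1 = (2 * i + 1) + 2 := by ring
      calc t ^ (2 * (i + 1) + 1) * g * (t ^ (2 * (i + 1) + 1))⁻¹
          = t ^ (2 * i + 1) * (t * (t * g * t⁻¹) * t⁻¹) * (t ^ (2 * i + 1))⁻¹ := by
            rw [e, pow_add, pow_two]; group
        _ = t ^ (2 * i + 1) * g * (t ^ (2 * i + 1))⁻¹ := by
            rw [ht]
            have : t * g⁻¹ * t⁻¹ = g := by
              rw [show t * g⁻¹ * t⁻¹ = (t * g * t⁻¹)⁻¹ by group, ht, inv_inv]
            rw [this]
        _ = g⁻¹ := ih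
  obtain ⟨i, hi⟩ : Odd m := Nat.not_even_iff_odd.mp fun h => hm (even_iff_two_dvd.mp h)
  set u := t ^ m with hu
  have hug : u * g * u⁻¹ = g⁻¹ := by rw [hu, hi]; exact hconj i
  have huN : u ∈ Subgroup.normalizer (C : Set G) := by
    rw [Subgroup.mem_normalizer_iff]
    intro y
    rw [hC, Subgroup.mem_centralizer_singleton_iff, Subgroup.mem_centralizer_singleton_iff]
    constructor
    · intro hy
      have h2 : Commute (u * y * u⁻¹) (u * g⁻¹ * u⁻¹) := (Commute.inv_right hy).map (MulAut.conj u).toMonoidHom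
      rw [show u * g⁻¹ * u⁻¹ = g by rw [show u * g⁻¹ * u⁻¹ = (u * g * u⁻¹)⁻¹ by group, hug, inv_inv]] at h2
      exact h2.eq
    · intro hy
      have h2 : Commute (u⁻¹ * (u * y * u⁻¹) * u⁻¹⁻¹) (u⁻¹ * g⁻¹ * u⁻¹⁻¹) :=
        (Commute.inv_right hy).map (MulAut.conj u⁻¹).toMonoidHom
      rw [show u⁻¹ * g⁻¹ * u⁻¹⁻¹ = g by rw [← hug]; group,
        show u⁻¹ * (u * y * u⁻¹) * u⁻¹⁻¹ = y by group] at h2
      exact h2.eq
  have : (C.subgroupOf (Subgroup.normalizer (C : Set G))).Normal := Subgroup.normal_in_normalizer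
  let q : ↥(Subgroup.normalizer (C : Set G)) ⧸ C.subgroupOf (Subgroup.normalizer (C : Set G)) :=
    QuotientGroup.mk ⟨u, huN⟩
  have h1 : orderOf q ∣ 2 ^ a := by
    refine orderOf_dvd_of_pow_eq_one ?_
    have : u ^ 2 ^ a = 1 := by rw [hu, ← pow_mul, mul_comm, ← hn, pow_orderOf_eq_one]
    rw [← QuotientGroup.mk_pow, show (⟨u, huN⟩ : ↥(Subgroup.normalizer (C : Set G))) ^ 2 ^ a = 1 from
      Subtype.ext this, QuotientGroup.mk_one]
  have h2 : orderOf q ∣ C.index :=
    (orderOf_dvd_natCard q).trans (C.relIndex_dvd_index_of_le Subgroup.le_normalizer)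
  obtain ⟨b, _, hb⟩ := (Nat.dvd_prime_pow Nat.prime_two).mp h1
  have hb0 : b = 0 := by
    by_contra h
    exact hodd ((dvd_pow_self 2 h).trans (hb ▸ h2))
  rw [hb0, pow_zero, orderOf_eq_one_iff, QuotientGroup.eq_one_iff] at hb
  have hcomm : u * g = g * u := by
    exact Subgroup.mem_centralizer_singleton_iff.mp (Subgroup.mem_subgroupOf.mp hb)
  rw [hcomm, mul_inv_cancel_right] at hug
  nth_rw 2 [hug]
  exact mul_inv_cancel g

variable {M : Ideal AlgInt}

/-- The local ideal as an additive subgroup of `ℂ`. -/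
def localAddSubgroup (hM : IsPModular 2 M) : AddSubgroup ℂ where
  carrier := {z | MemLocalIdeal M z}
  add_mem' := memI_add hM
  zero_mem' := memI_zero hM
  neg_mem' := memI_neg

theorem memI_sum_of_involution (hM : IsPModular 2 M) {α : Type*} [Fintype α] (σ : α → α)
    (hσ : ∀ a, σ (σ a) = a) (f : α → ℂ) (h1 : ∀ a, σ a = a → MemLocalIdeal M (f a))
    (h2 : ∀ a, MemLocalIdeal M (f a + f (σ a))) : MemLocalIdeal M (∑ a, f a) := by
  classical
  have key : (QuotientAddGroup.mk' (localAddSubgroup hM)) (∑ a, f a) = 0 := by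
    rw [map_sum]
    refine Finset.sum_involution (fun a _ => σ a) (fun a _ => ?_) (fun a _ hne => ?_)
      (fun a _ => Finset.mem_univ _) (fun a _ => hσ a)
    · rw [← map_add]; exact (QuotientAddGroup.eq_zero_iff _).mpr (h2 a)
    · exact fun h => hne ((QuotientAddGroup.eq_zero_iff _).mpr (h1 a h))
  exact (QuotientAddGroup.eq_zero_iff _).mp key

theorem memR_centralChar (hM : IsPModular 2 M) {χ : G → ℂ} (hχ : IsIrrCharacter G χ) (g : G) :
    MemLocalRing M (centralChar χ g) := memR_of_isIntegral hM (isIntegral_centralChar hχ g)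

/-- Two central characters invariant under inversion that agree mod M on real classes agree everywhere. -/
theorem memI_centralChar_sub_of_real (hM : IsPModular 2 M) {χ ψ : G → ℂ} (hχ : IsIrrCharacter G χ)
    (hψ : IsIrrCharacter G ψ) (hχi : ∀ g, MemLocalIdeal M (centralChar χ g⁻¹ - centralChar χ g))
    (hψi : ∀ g, MemLocalIdeal M (centralChar ψ g⁻¹ - centralChar ψ g))
    (hreal : ∀ g : G, IsConj g g⁻¹ → MemLocalIdeal M (centralChar χ g - centralChar ψ g)) (g : G) :
    MemLocalIdeal M (centralChar χ g - centralChar ψ g) := by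
  classical
  have := Fintype.ofFinite (ConjClasses G)
  have hclχ := Char.IsIrrCharacter.isClassFunction hχ
  have hclψ := Char.IsIrrCharacter.isClassFunction hψ
  let σ : ConjClasses G → ConjClasses G := fun L => ConjClasses.mk L.out⁻¹
  have hout : ∀ L : ConjClasses G, IsConj (σ L).out L.out⁻¹ := fun L => by
    rw [← ConjClasses.mk_eq_mk_iff_isConj]
    exact Quotient.out_eq _
  have hσ : ∀ L, σ (σ L) = L := fun L => by
    have h := isConj_inv (hout L)
    rw [inv_inv] at h
    exact (ConjClasses.mk_eq_mk_iff_isConj.mpr h).trans (Quotient.out_eq L)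
  let f : ConjClasses G → ℂ := fun L =>
    (mulCount g g⁻¹ L.out : ℂ) * (centralChar χ L.out - centralChar ψ L.out)
  have hsum : MemLocalIdeal M (∑ L, f L) := by
    refine memI_sum_of_involution hM σ hσ f (fun L hL => ?_) (fun L => ?_)
    · refine memI_mul_left hM (memR_natCast hM _) (hreal _ ?_)
      have h := hout L
      rwa [hL] at h
    · have e : f L + f (σ L) = (mulCount g g⁻¹ L.out : ℂ) *
          ((centralChar χ L.out⁻¹ - centralChar χ L.out) - (centralChar ψ L.out⁻¹ - centralChar ψ L.out)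
            + 2 * (centralChar χ L.out - centralChar ψ L.out)) := by
        simp only [f]
        rw [centralChar_eq_of_isConj hclχ (hout L), centralChar_eq_of_isConj hclψ (hout L),
          mulCount_eq_of_isConj (hout L), mulCount_inv]
        ring
      rw [e]
      refine memI_mul_left hM (memR_natCast hM _) (memI_add hM (memI_sub hM (hχi _) (hψi _))
        (memI_mul_right hM ?_ (memR_sub hM (memR_centralChar hM hχ _) (memR_centralChar hM hψ _))))
      simpa using memI_p hM
  have hprod : MemLocalIdeal M (centralChar χ g * centralChar χ g⁻¹ - centralChar ψ g * centralChar ψ g⁻¹) := by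
    rw [centralChar_mul hχ, centralChar_mul hψ, ← Finset.sum_sub_distrib]
    simpa only [f, mul_sub] using hsum
  refine memI_of_pow hM (memR_sub hM (memR_centralChar hM hχ g) (memR_centralChar hM hψ g)) (n := 2) ?_
  have e : (centralChar χ g - centralChar ψ g) ^ 2 =
      (centralChar χ g * centralChar χ g⁻¹ - centralChar ψ g * centralChar ψ g⁻¹)
        - centralChar χ g * (centralChar χ g⁻¹ - centralChar χ g)
        + centralChar ψ g * (centralChar ψ g⁻¹ - centralChar ψ g)
        - 2 * (centralChar ψ g * (centralChar χ g - centralChar ψ g)) := by ring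
  rw [e]
  refine memI_sub hM (memI_add hM (memI_sub hM hprod (memI_mul_left hM (memR_centralChar hM hχ g) (hχi g)))
    (memI_mul_left hM (memR_centralChar hM hψ g) (hψi g))) (memI_mul_right hM ?_
      (memR_mul hM (memR_centralChar hM hψ g)
        (memR_sub hM (memR_centralChar hM hχ g) (memR_centralChar hM hψ g))))
  simpa using memI_p hM

/-- A central character invariant under inversion at odd-order elements, of odd degree, is principal. -/
theorem sameBlock_one (hM : IsPModular 2 M) {χ : G → ℂ} (hχ : IsIrrCharacter G χ)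
    (hodd : Odd (charDegree χ))
    (hinv : ∀ s : G, Odd (orderOf s) → MemLocalIdeal M (centralChar χ s⁻¹ - centralChar χ s)) :
    SameBlock M (fun _ : G => (1 : ℂ)) χ := by
  classical
  have hchar := Char.IsIrrCharacter.isCharacter hχ
  have hone : IsIrrCharacter G (fun _ : G => (1 : ℂ)) := Char.isIrrCharacter_one
  have hd : ¬ MemLocalIdeal M (χ 1) := by
    rw [← charDegree_cast hchar, memI_natCast hM]
    exact hodd.not_two_dvd_nat
  have hd0 : χ 1 ≠ 0 := Char.IsIrrCharacter.apply_one_ne_zero hχ
  have hR1 : MemLocalRing M (χ 1) := memR_of_isIntegral hM (Char.IsCharacter.isIntegral hchar 1)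
  have hRv : ∀ g, MemLocalRing M (χ g) := fun g => memR_of_isIntegral hM (Char.IsCharacter.isIntegral hchar g)
  have hcancel : ∀ {x : ℂ}, MemLocalRing M x → MemLocalIdeal M (x * χ 1) → MemLocalIdeal M x :=
    fun hx h => (memI_or_memI hM hx hR1 h).resolve_right hd
  have hmulone : ∀ g : G, centralChar χ g * χ 1 =
      ((Subgroup.centralizer ({g} : Set G)).index : ℂ) * χ g := fun g => by
    rw [centralChar, div_mul_cancel₀ _ hd0]
  have heven : ∀ g : G, 2 ∣ (Subgroup.centralizer ({g} : Set G)).index →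
      MemLocalIdeal M (centralChar χ g) := fun g h => hcancel (memR_centralChar hM hχ g) (by
    rw [hmulone]; exact memI_mul_right hM ((memI_natCast hM).mpr h) (hRv g))
  -- reduction to the 2-regular part
  have hred : ∀ g : G, ¬ 2 ∣ (Subgroup.centralizer ({g} : Set G)).index → ∀ (c k : ℕ),
      c * 2 ^ k ≡ 2 ^ k [MOD orderOf g] →
      MemLocalIdeal M (centralChar χ (g ^ c) - centralChar χ g) := by
    intro g hg c k hc
    have hle : Subgroup.centralizer ({g} : Set G) ≤ Subgroup.centralizer ({g ^ c} : Set G) := by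
      intro y hy
      rw [Subgroup.mem_centralizer_singleton_iff] at hy ⊢
      exact (Commute.pow_right hy c).eq
    have hgc : ¬ 2 ∣ (Subgroup.centralizer ({g ^ c} : Set G)).index :=
      fun h => hg (h.trans (Subgroup.index_dvd_of_le hle))
    refine hcancel (memR_sub hM (memR_centralChar hM hχ _) (memR_centralChar hM hχ _)) ?_
    rw [sub_mul, hmulone, hmulone]
    have odd1 : ∀ {n : ℕ}, ¬ 2 ∣ n → MemLocalIdeal M ((n : ℂ) - 1) := fun {n} hn => by
      obtain ⟨j, rfl⟩ : Odd n := Nat.not_even_iff_odd.mp fun h => hn (even_iff_two_dvd.mp h)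
      have : (((2 * j + 1 : ℕ) : ℂ) - 1) = ((2 * j : ℕ) : ℂ) := by push_cast; ring
      rw [this, memI_natCast hM]; exact dvd_mul_right 2 j
    have e : ((Subgroup.centralizer ({g ^ c} : Set G)).index : ℂ) * χ (g ^ c) -
        ((Subgroup.centralizer ({g} : Set G)).index : ℂ) * χ g =
        (((Subgroup.centralizer ({g ^ c} : Set G)).index : ℂ) - 1) * χ (g ^ c) -
        (((Subgroup.centralizer ({g} : Set G)).index : ℂ) - 1) * χ g + (χ (g ^ c) - χ g) := by ring
    rw [e]
    exact memI_add hM (memI_sub hM (memI_mul_right hM (odd1 hgc) (hRv _))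
      (memI_mul_right hM (odd1 hg) (hRv _))) (memI_sub_pow hM hchar g hc)
  have hexp : ∀ g : G, ∃ c k : ℕ, c * 2 ^ k ≡ 2 ^ k [MOD orderOf g] ∧ Odd (orderOf (g ^ c)) := by
    intro g
    obtain ⟨k, m, hm, hn⟩ := Nat.exists_eq_pow_mul_and_not_dvd (orderOf_pos g).ne' 2 (by norm_num)
    have hcop : Nat.Coprime (2 ^ k) m := ((Nat.prime_two.coprime_iff_not_dvd).mpr hm).pow_left k
    obtain ⟨c, hc0, hc1⟩ := Nat.chineseRemainder hcop 0 1
    refine ⟨c, k, ?_, ?_⟩
    · rw [hn, mul_comm (2 ^ k) m]
      simpa using hc1.mul_right' (2 ^ k)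
    · refine Odd.of_dvd_nat (Nat.not_even_iff_odd.mp fun h => hm (even_iff_two_dvd.mp h)) ?_
      refine orderOf_dvd_of_pow_eq_one ?_
      rw [← pow_mul, ← orderOf_dvd_iff_pow_eq_one, hn]
      exact Nat.mul_dvd_mul_right (Nat.modEq_zero_iff_dvd.mp hc0) m
  have hχi : ∀ g : G, MemLocalIdeal M (centralChar χ g⁻¹ - centralChar χ g) := by
    intro g
    by_cases hg : 2 ∣ (Subgroup.centralizer ({g} : Set G)).index
    · exact memI_sub hM (heven _ (by rwa [index_centralizer_inv])) (heven _ hg)
    obtain ⟨c, k, hc, hs⟩ := hexp g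
    have h1 := hred g hg c k hc
    have h2 := hred g⁻¹ (by rwa [index_centralizer_inv]) c k (by rwa [orderOf_inv])
    rw [inv_pow] at h2
    exact memI_sub_trans hM (memI_sub_trans hM (memI_sub_comm h2) (hinv _ hs)) h1
  have honei : ∀ g : G, MemLocalIdeal M
      (centralChar (fun _ : G => (1 : ℂ)) g⁻¹ - centralChar (fun _ : G => (1 : ℂ)) g) := fun g => by
    rw [centralChar, centralChar, index_centralizer_inv, sub_self]
    exact memI_zero hM
  intro g
  refine memI_centralChar_sub_of_real hM hone hχ honei hχi (fun g hr => ?_) g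
  by_cases hg : 2 ∣ (Subgroup.centralizer ({g} : Set G)).index
  · refine memI_sub hM ?_ (heven g hg)
    rw [centralChar, mul_one, div_one]
    exact (memI_natCast hM).mpr hg
  have hgg := mul_self_eq_one_of_real hr hg
  have h0 := hred g hg 0 1 (by
    rw [zero_mul]
    exact (Nat.modEq_zero_iff_dvd.mpr (orderOf_dvd_of_pow_eq_one (by rw [pow_one, sq, hgg]))).symm)
  rw [pow_zero, centralChar_one_eq hχ] at h0
  refine memI_sub_trans hM ?_ h0
  rw [centralChar, mul_one, div_one]
  obtain ⟨j, hj⟩ : Odd (Subgroup.centralizer ({g} : Set G)).index :=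
    Nat.not_even_iff_odd.mp fun h => hg (even_iff_two_dvd.mp h)
  have : (((2 * j + 1 : ℕ) : ℂ) - 1) = ((2 * j : ℕ) : ℂ) := by push_cast; ring
  rw [hj, this, memI_natCast hM]; exact dvd_mul_right 2 j

end Cfsg.Agent.RealBlock
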