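/-
Galois-fixed members of principal 2-blocks and degree parities (namespace `Cfsg.Agent.RealBlock`).

Main results: `coprime_card_of_twist`, `pow_pow_eq_self`, `powIrr_mem_principal`, `memI_sub_one_principal`
(the coefficient at 1 of the principal idempotent is 1 mod M), `sum_mult_principal`,
`memI_sum_of_fixed` (parity of a sum over the fixed points).
-/
import Cfsg.Agent.Lib.RealBlock.Principal
import Cfsg.Agent.Lib.RealBlock.BlockSet
import Cfsg.Agent.Lib.GaloisPow.Twist
import Cfsg.Agent.Lib.Blocks.WeakOrth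

set_option autoImplicit false
set_option linter.unusedSectionVars false

namespace Cfsg.Agent.RealBlock

open Cfsg Blocks
open scoped ComplexConjugate

variable {G : Type*} [Group G] [Fintype G] {M : Ideal AlgInt}

/-- An exponent cubing 2-elements and fixing elements of odd order is prime to the group order. -/
theorem coprime_card_of_twist {k : ℕ} (hk₁ : ∀ g : G, (∃ j : ℕ, orderOf g = 2 ^ j) → g ^ k = g ^ 3)
    (hk₂ : ∀ g : G, Odd (orderOf g) → g ^ k = g) : k.Coprime (Nat.card G) := by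
  by_contra h
  obtain ⟨q, hq, hqk, hqG⟩ := Nat.Prime.not_coprime_iff_dvd.mp h
  have := Fact.mk hq
  obtain ⟨g, hg⟩ := exists_prime_orderOf_dvd_card' q hqG
  have h1 : g ^ k = 1 := orderOf_dvd_iff_pow_eq_one.mp (hg ▸ hqk)
  by_cases h2 : q = 2
  · have h3 := hk₁ g ⟨1, by rw [hg, h2, pow_one]⟩
    rw [h1] at h3
    have := orderOf_dvd_of_pow_eq_one h3.symm
    rw [hg, h2] at this
    norm_num at this
  · have h3 := hk₂ g (by rw [hg]; exact hq.odd_of_ne_two h2)
    rw [h1] at h3
    rw [← h3, orderOf_one] at hg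
    exact hq.one_lt.ne hg

theorem iterate_pow_eq {k c : ℕ} {w : G} (h : w ^ k = w ^ c) (m : ℕ) : w ^ k ^ m = w ^ c ^ m := by
  induction m with
  | zero => simp
  | succ m ih =>
    rw [pow_succ k, pow_succ c, pow_mul, ih, ← pow_mul, mul_comm (c ^ m) k, pow_mul, h, ← pow_mul,
      mul_comm c]

theorem pow_pow_three (a : ℕ) : 3 ^ 2 ^ a ≡ 1 [MOD 2 ^ (a + 1)] := by
  induction a with
  | zero => decide
  | succ a ih =>
    have h := (Nat.modEq_iff_dvd' (Nat.one_le_pow _ _ (by norm_num))).mp ih.symm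
    obtain ⟨c, hc⟩ := h
    have h3 : 3 ^ 2 ^ a = 2 ^ (a + 1) * c + 1 := by
      have := Nat.one_le_pow (2 ^ a) 3 (by norm_num)
      omega
    rw [pow_succ 2 a, pow_mul, h3]
    refine ((Nat.modEq_iff_dvd' (Nat.one_le_pow _ _ (by positivity))).mpr ⟨c + 2 ^ a * c * c, ?_⟩).symm
    have : (2 ^ (a + 1) * c + 1) ^ 2 = 2 ^ (a + 1 + 1) * (c + 2 ^ a * c * c) + 1 := by
      rw [pow_succ 2 (a + 1), pow_succ 2 a]; ring
    omega

/-- The twist has 2-power order. -/
theorem pow_pow_eq_self {k : ℕ} (hk₁ : ∀ g : G, (∃ j : ℕ, orderOf g = 2 ^ j) → g ^ k = g ^ 3)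
    (hk₂ : ∀ g : G, Odd (orderOf g) → g ^ k = g) :
    ∀ g : G, g ^ k ^ 2 ^ (Nat.card G).factorization 2 = g := by
  intro g
  set a := (Nat.card G).factorization 2 with ha
  set K := k ^ 2 ^ a
  obtain ⟨j, m, hm, hn⟩ := Nat.exists_eq_pow_mul_and_not_dvd (orderOf_pos g).ne' 2 (by norm_num)
  have hj : 2 ^ j ∣ 2 ^ (a + 1) := by
    refine pow_dvd_pow 2 (le_trans ?_ (Nat.le_succ a))
    rw [ha, ← Nat.prime_two.pow_dvd_iff_le_factorization Nat.card_pos.ne']
    exact (Dvd.intro m hn.symm).trans (orderOf_dvd_natCard g)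
  have hu : (g ^ K) ^ m = g ^ m := by
    rw [← pow_mul, mul_comm, pow_mul]
    have ho : orderOf (g ^ m) ∣ 2 ^ j :=
      orderOf_dvd_of_pow_eq_one (by rw [← pow_mul, mul_comm, ← hn, pow_orderOf_eq_one])
    obtain ⟨i, -, hi⟩ := (Nat.dvd_prime_pow Nat.prime_two).mp ho
    rw [iterate_pow_eq (hk₁ _ ⟨i, hi⟩)]
    have hmod : 3 ^ 2 ^ a ≡ 1 [MOD orderOf (g ^ m)] := (pow_pow_three a).of_dvd (ho.trans hj)
    conv_rhs => rw [← pow_one (g ^ m)]
    exact pow_eq_pow_iff_modEq.mpr hmod
  have hw : (g ^ K) ^ 2 ^ j = g ^ 2 ^ j := by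
    rw [← pow_mul, mul_comm, pow_mul]
    have ho : Odd (orderOf (g ^ 2 ^ j)) := by
      refine Odd.of_dvd_nat (Nat.not_even_iff_odd.mp fun h => hm (even_iff_two_dvd.mp h)) ?_
      exact orderOf_dvd_of_pow_eq_one (by rw [← pow_mul, ← hn, pow_orderOf_eq_one])
    rw [iterate_pow_eq (c := 1) (by rw [pow_one]; exact hk₂ _ ho), one_pow, pow_one]
  have hcomm : Commute (g ^ K) g⁻¹ := (Commute.refl g).inv_right.pow_left K
  have h1 : (g ^ K * g⁻¹) ^ m = 1 := by rw [hcomm.mul_pow, hu, inv_pow, mul_inv_cancel]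
  have h2 : (g ^ K * g⁻¹) ^ 2 ^ j = 1 := by rw [hcomm.mul_pow, hw, inv_pow, mul_inv_cancel]
  have h3 := pow_gcd_eq_one.mpr ⟨h1, h2⟩
  rw [Nat.Coprime.gcd_eq_one ((Nat.Prime.coprime_iff_not_dvd Nat.prime_two).mpr hm |>.pow_left j).symm,
    pow_one] at h3
  exact mul_inv_eq_one.mp h3

theorem centralizer_pow_eq {k : ℕ} (hk : k.Coprime (Nat.card G)) (g : G) :
    Subgroup.centralizer ({g ^ k} : Set G) = Subgroup.centralizer ({g} : Set G) := by
  have hco : (orderOf g).Coprime k := (hk.coprime_dvd_right (orderOf_dvd_natCard g)).symm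
  obtain ⟨i, hi⟩ := exists_pow_eq_self_of_coprime (hco.symm)
  ext a
  rw [Subgroup.mem_centralizer_singleton_iff, Subgroup.mem_centralizer_singleton_iff]
  exact ⟨fun h => (hi ▸ Commute.pow_right (h : Commute a (g ^ k)) i : Commute a g).eq,
    fun h => (Commute.pow_right (h : Commute a g) k).eq⟩

theorem powIrr_mem_principal {k : ℕ} (hk : k.Coprime (Nat.card G)) {χ : IrrCharacter G}
    (hχ : χ ∈ principalBlock M G) : GaloisPow.powIrr hk χ ∈ principalBlock M G := by
  intro g
  have h := hχ (g ^ k)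
  simp only [centralChar, centralizer_pow_eq hk] at h
  simpa [centralChar] using h

/-- The principal character as an element of `IrrCharacter`. -/
def oneChar (G : Type*) [Group G] : IrrCharacter G := ⟨fun _ => 1, Char.isIrrCharacter_one⟩

theorem oneChar_mem (hM : IsPModular 2 M) : oneChar G ∈ principalBlock M G :=
  RealBlock.sameBlock_refl hM _

theorem isPBlock_principalBlock : IsPBlock M (principalBlock M G) := ⟨oneChar G, rfl⟩

theorem blockCoeff_principal_inv (hM : IsPModular 2 M) (g : G) :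
    blockCoeff (principalBlock M G) g⁻¹ = blockCoeff (principalBlock M G) g := by
  classical
  have := Fintype.ofFinite (IrrCharacter G)
  have hk : (Nat.card G - 1).Coprime (Nat.card G) := by
    have := Nat.card_pos (α := G)
    refine Nat.Coprime.symm ((Nat.coprime_self_sub_right (m := 1) (n := Nat.card G) (by omega)).mpr ?_)
    exact Nat.coprime_one_right _
  have hinv : ∀ x : G, x ^ (Nat.card G - 1) = x⁻¹ := fun x => by
    rw [eq_inv_iff_mul_eq_one, ← pow_succ, Nat.sub_add_cancel Nat.card_pos, pow_card_eq_one']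
  rw [blockCoeff, blockCoeff]
  congr 1
  rw [finsum_mem_eq_toFinset_sum, finsum_mem_eq_toFinset_sum]
  refine Finset.sum_bij' (fun χ _ => GaloisPow.powIrr hk χ) (fun χ _ => GaloisPow.powIrr hk χ)
    ?_ ?_ ?_ ?_ ?_
  · intro χ hχ; rw [Set.mem_toFinset] at hχ ⊢; exact powIrr_mem_principal hk hχ
  · intro χ hχ; rw [Set.mem_toFinset] at hχ ⊢; exact powIrr_mem_principal hk hχ
  · intro χ _; exact Subtype.ext (funext fun x => by simp only [GaloisPow.powIrr_apply, hinv, inv_inv])
  · intro χ _; exact Subtype.ext (funext fun x => by simp only [GaloisPow.powIrr_apply, hinv, inv_inv])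
  · intro χ _
    simp only [GaloisPow.powIrr_apply, hinv, inv_one]

/-- The coefficient at `1` of the principal idempotent is congruent to `1`. -/
theorem memI_sub_one_principal (hM : IsPModular 2 M) :
    MemLocalIdeal M (blockCoeff (principalBlock M G) 1 - 1) := by
  classical
  have hB : IsPBlock M (principalBlock M G) := isPBlock_principalBlock
  have hint := blockInd_mem_intRing hM hB
  have hsum : ∑ x : G, blockCoeff (principalBlock M G) x = 1 := by
    have h := omega_ofOmega (blockInd (principalBlock M G)) (oneChar G)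
    rw [blockInd_of_mem (oneChar_mem hM), omega_eq_sum, ← blockCoeff_eq_ofOmega] at h
    simpa [oneChar] using h
  have hrest : MemLocalIdeal M
      (∑ x : G, (blockCoeff (principalBlock M G) x - if x = 1 then blockCoeff (principalBlock M G) 1 else 0)) := by
    refine memI_sum_of_involution hM (fun x : G => x⁻¹) inv_inv _ (fun x hx => ?_) (fun x => ?_)
    · by_cases h1 : x = 1
      · subst h1; simpa using memI_zero hM
      · rw [if_neg h1, sub_zero, blockCoeff_eq_ofOmega, ofOmega_singular_eq_zero hM hint ?_]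
        · exact memI_zero hM
        · rw [orderOf_eq_prime (p := 2) (by rw [pow_two]; exact inv_eq_iff_mul_eq_one.mp hx) h1]
    · by_cases h1 : x = 1
      · subst h1; simpa using memI_zero hM
      · rw [if_neg h1, if_neg (inv_ne_one.mpr h1), blockCoeff_principal_inv hM, sub_zero, ← two_mul]
        exact memI_mul_right hM (by simpa using memI_p hM) (memR_blockCoeff hM hB x)
  rw [Finset.sum_sub_distrib, hsum, Finset.sum_ite_eq' Finset.univ (1 : G), if_pos (Finset.mem_univ _)] at hrest
  exact memI_sub_comm hrest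

/-- Degrees weighted by multiplicities on a 2-subgroup. -/
theorem sum_mult_principal (hM : IsPModular 2 M) (P : Subgroup G) [Fintype P] (hP : IsPGroup 2 P)
    [Fintype (IrrCharacter G)] [DecidablePred (· ∈ principalBlock M G)] (θ : P → ℂ) :
    ∑ χ ∈ Finset.univ.filter (· ∈ principalBlock M G),
      (χ : G → ℂ) 1 * classInner θ (fun u : P => (χ : G → ℂ) u) =
    (P.index : ℂ) * blockCoeff (principalBlock M G) 1 * θ 1 := by
  classical
  have hint := blockInd_mem_intRing hM (isPBlock_principalBlock (G := G) (M := M))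
  have hcoeff : ∀ x : G, ∑ χ ∈ Finset.univ.filter (· ∈ principalBlock M G),
      (χ : G → ℂ) 1 * conj ((χ : G → ℂ) x) = (Nat.card G : ℂ) * blockCoeff (principalBlock M G) x := by
    intro x
    rw [blockCoeff, ← mul_assoc, mul_inv_cancel₀ (Nat.cast_ne_zero.mpr Nat.card_pos.ne'), one_mul,
      finsum_mem_eq_toFinset_sum]
    refine Finset.sum_congr ?_ fun _ _ => rfl
    ext χ; simp
  simp only [classInner, Finset.mul_sum]
  rw [Finset.sum_comm, Finset.sum_eq_single (1 : P) (fun u _ hu => ?_) (fun h => absurd (Finset.mem_univ _) h)]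
  · rw [Finset.sum_congr rfl (g := fun χ : IrrCharacter G =>
      ((Nat.card P : ℂ)⁻¹ * θ 1) * ((χ : G → ℂ) 1 * conj ((χ : G → ℂ) 1)))
      (fun χ _ => by rw [OneMemClass.coe_one]; ring),
      ← Finset.mul_sum, hcoeff, ← P.card_mul_index, Nat.cast_mul]
    have : (Nat.card P : ℂ) ≠ 0 := Nat.cast_ne_zero.mpr Nat.card_pos.ne'
    field_simp
  · rw [Finset.sum_congr rfl (g := fun χ : IrrCharacter G =>
      ((Nat.card P : ℂ)⁻¹ * θ u) * ((χ : G → ℂ) 1 * conj ((χ : G → ℂ) (u : G))))
      (fun χ _ => by ring),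
      ← Finset.mul_sum, hcoeff, blockCoeff_eq_ofOmega, ofOmega_singular_eq_zero hM hint, mul_zero, mul_zero]
    obtain ⟨j, hj⟩ := IsPGroup.iff_orderOf.mp hP u
    rw [Subgroup.orderOf_coe, hj]
    exact dvd_pow_self 2 fun h0 => hu (orderOf_eq_one_iff.mp (by rw [hj, h0, pow_zero]))

/-- A natural sum invariant under a permutation of 2-power order is congruent to its sum over the fixed points. -/
theorem sum_modEq_fixed {α : Type*} [Fintype α] [DecidableEq α] (σ : Equiv.Perm α) {m : ℕ}
    (hσ : σ ^ 2 ^ m = 1) (w : α → ℕ) (hw : ∀ a, w (σ a) = w a) :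
    ∑ a, w a ≡ ∑ a ∈ Finset.univ.filter (fun a => σ a = a), w a [MOD 2] := by
  have hσ' : IsPGroup 2 (Subgroup.zpowers σ) := by
    obtain ⟨i, -, hi⟩ := (Nat.dvd_prime_pow Nat.prime_two).mp (orderOf_dvd_of_pow_eq_one hσ)
    exact IsPGroup.of_card (n := i) (by rw [Nat.card_zpowers, hi])
  let T := {a : α // Odd (w a)}
  let τ : Equiv.Perm T := σ.subtypePerm fun a => by rw [hw]
  have hτ : τ ^ 2 ^ m = 1 := by
    rw [Equiv.Perm.subtypePerm_pow]; ext a; simp [hσ]
  have hτ' : IsPGroup 2 (Subgroup.zpowers τ) := by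
    obtain ⟨i, -, hi⟩ := (Nat.dvd_prime_pow Nat.prime_two).mp (orderOf_dvd_of_pow_eq_one hτ)
    exact IsPGroup.of_card (n := i) (by rw [Nat.card_zpowers, hi])
  have h := hτ'.card_modEq_card_fixedPoints T
  have hfix : Nat.card (MulAction.fixedPoints (Subgroup.zpowers τ) T) = Nat.card {a : T // σ a.1 = a.1} := by
    refine Nat.card_congr (Equiv.subtypeEquivRight fun a => ?_)
    refine ⟨fun h => congrArg Subtype.val (h ⟨τ, Subgroup.mem_zpowers τ⟩), fun h => ?_⟩
    rintro ⟨r, hr⟩
    obtain ⟨i, rfl⟩ := Subgroup.mem_zpowers_iff.mp hr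
    exact Equiv.Perm.zpow_apply_eq_self_of_apply_eq_self (Subtype.ext h) i
  rw [hfix] at h
  have key : ∀ s : Finset α, ∑ a ∈ s, w a ≡ (s.filter fun a => Odd (w a)).card [MOD 2] := by
    intro s
    rw [Finset.card_filter]
    refine Nat.ModEq.sum fun a _ => ?_
    rcases Nat.even_or_odd (w a) with he | ho
    · rw [if_neg (Nat.not_odd_iff_even.mpr he)]; exact Nat.even_iff.mp he
    · rw [if_pos ho]; exact Nat.odd_iff.mp ho
  refine (key _).trans (Nat.ModEq.trans ?_ (key _).symm)
  have e1 : (Finset.univ.filter fun a => Odd (w a)).card = Nat.card T := by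
    rw [← Fintype.card_subtype, Nat.card_eq_fintype_card]
  have e2 : ((Finset.univ.filter fun a => σ a = a).filter fun a => Odd (w a)).card =
      Nat.card {a : T // σ a.1 = a.1} := by
    rw [Nat.card_congr (Equiv.subtypeSubtypeEquivSubtypeInter (fun a => Odd (w a)) (fun a => σ a = a)),
      Nat.card_eq_fintype_card, Fintype.card_subtype, Finset.filter_filter]
    exact congrArg Finset.card (Finset.filter_congr fun a _ => and_comm)
  rw [e1, e2]
  exact h

end Cfsg.Agent.RealBlock
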